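import Groth.Agent.Lib.CurveCoh17.LES
import Mathlib.RingTheory.Length
import Mathlib.RingTheory.HopkinsLevitzki
import Mathlib.LinearAlgebra.Dimension.Finite
import Mathlib.CategoryTheory.Abelian.Exact

/-!
# Counting in long exact cohomology sequences
-/

set_option linter.style.haveILetI false
set_option autoImplicit false
universe u

open CategoryTheory CategoryTheory.Limits AlgebraicGeometry

namespace Groth.Agent.LenEuler15

open Groth.Agent.CurveCoh17

section len

variable (A : Type u) [CommRing A]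

/-- The length as an integer. -/
noncomputable def len (M : Type u) [AddCommGroup M] [Module A M] : ℤ := ((Module.length A M).toNat : ℤ)

theorem len_subsingleton (M : Type u) [AddCommGroup M] [Module A M] [Subsingleton M] : len A M = 0 := by
  simp [len]

variable [IsArtinianRing A] {V₁ V₂ V₃ : Type u} [AddCommGroup V₁] [Module A V₁] [AddCommGroup V₂] [Module A V₂]
  [AddCommGroup V₃] [Module A V₃]

theorem length_ne_top (M : Type u) [AddCommGroup M] [Module A M] [Module.Finite A M] :
    Module.length A M ≠ ⊤ := by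
  rw [Module.length_ne_top_iff, isFiniteLength_iff_isNoetherian_isArtinian]
  exact ⟨inferInstance, inferInstance⟩

theorem len_eq_range_add_range [Module.Finite A V₂] (f : V₁ →ₗ[A] V₂) (g : V₂ →ₗ[A] V₃)
    (h : Function.Exact f g) : len A V₂ = len A (LinearMap.range f) + len A (LinearMap.range g) := by
  haveI : IsNoetherian A V₂ := inferInstance
  have he : Function.Exact (LinearMap.range f).subtype g.rangeRestrict := by
    intro x
    rw [show g.rangeRestrict x = 0 ↔ g x = 0 from Subtype.ext_iff, h x, Set.mem_range]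
    exact ⟨fun ⟨y, hy⟩ => ⟨⟨f y, LinearMap.mem_range_self f y⟩, hy⟩,
      fun ⟨⟨z, w, hw⟩, hz⟩ => ⟨w, hw.trans hz⟩⟩
  have := Module.length_eq_add_of_exact (LinearMap.range f).subtype g.rangeRestrict
    (Submodule.injective_subtype _) g.surjective_rangeRestrict he
  rw [len, this, ENat.toNat_add (length_ne_top A _) (length_ne_top A _)]
  push_cast
  rfl

theorem len_range_of_injective (f : V₁ →ₗ[A] V₂) (hf : Function.Injective f) :
    len A V₁ = len A (LinearMap.range f) := by
  rw [len, len, (LinearEquiv.ofInjective f hf).length_eq]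

variable {X : Scheme.{u}} [X.Over (Spec (CommRingCat.of A))] {S : ShortComplex X.Modules}

/-- Additivity of the Euler characteristic counted with lengths. -/
theorem euler_add (hS : S.ShortExact) (N : ℕ)
    (h₁ : ∀ n, Module.Finite A (Coh.HH X S.X₁ n)) (h₂ : ∀ n, Module.Finite A (Coh.HH X S.X₂ n))
    (h₃ : ∀ n, Module.Finite A (Coh.HH X S.X₃ n)) (hv : Subsingleton (Coh.HH X S.X₁ (N + 1))) :
    ∑ n ∈ Finset.range (N + 1), (-1 : ℤ) ^ n * len A (Coh.HH X S.X₂ n) =
      ∑ n ∈ Finset.range (N + 1), (-1 : ℤ) ^ n * len A (Coh.HH X S.X₁ n) +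
      ∑ n ∈ Finset.range (N + 1), (-1 : ℤ) ^ n * len A (Coh.HH X S.X₃ n) := by
  let a := fun n => len A (Coh.HH X S.X₁ n)
  let b := fun n => len A (Coh.HH X S.X₂ n)
  let c := fun n => len A (Coh.HH X S.X₃ n)
  let r := fun n => len A (LinearMap.range (hdelta A hS n))
  let p := fun n => len A (LinearMap.range (hmap A S.f n))
  let q := fun n => len A (LinearMap.range (hmap A S.g n))
  have hb : ∀ n, b n = p n + q n := fun n => by
    haveI := h₂ n
    exact len_eq_range_add_range A _ _ (exact_hmap_hmap A hS n)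
  have hc : ∀ n, c n = q n + r n := fun n => by
    haveI := h₃ n
    exact len_eq_range_add_range A _ _ (exact_hmap_hdelta A hS n)
  have ha : ∀ n, a (n + 1) = r n + p (n + 1) := fun n => by
    haveI := h₁ (n + 1)
    exact len_eq_range_add_range A _ _ (exact_hdelta_hmap A hS n)
  have ha0 : a 0 = p 0 := len_range_of_injective A _ (hmap_f_injective A hS)
  have key : ∀ m, ∑ n ∈ Finset.range (m + 1), (-1 : ℤ) ^ n * (b n - a n - c n) = (-1 : ℤ) ^ (m + 1) * r m := by
    intro m
    induction m with
    | zero =>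
      simp only [zero_add, Finset.range_one, Finset.sum_singleton, pow_zero, one_mul, pow_one]
      linear_combination hb 0 - ha0 - hc 0
    | succ m ih =>
      rw [Finset.sum_range_succ, ih]
      linear_combination (-1 : ℤ) ^ (m + 1) * hb (m + 1) - (-1 : ℤ) ^ (m + 1) * ha m - (-1 : ℤ) ^ (m + 1) * hc (m + 1)
  have hr : r N = 0 := by
    haveI := hv
    exact len_subsingleton A _
  have hk := key N
  rw [hr, mul_zero] at hk
  simp only [mul_sub, Finset.sum_sub_distrib] at hk
  linear_combination hk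

end len

section field

variable (k : Type u) [Field k] {V₁ V₂ V₃ : Type u} [AddCommGroup V₁] [Module k V₁] [AddCommGroup V₂]
  [Module k V₂] [AddCommGroup V₃] [Module k V₃]

theorem finite_and_finrank_le_of_exact [Module.Finite k V₁] [Module.Finite k V₃] (f : V₁ →ₗ[k] V₂)
    (g : V₂ →ₗ[k] V₃) (h : Function.Exact f g) :
    Module.Finite k V₂ ∧ Module.finrank k V₂ ≤ Module.finrank k V₁ + Module.finrank k V₃ := by
  haveI : Module.Finite k (LinearMap.range f) := Module.Finite.range f
  haveI : Module.Finite k V₂ := ⟨Submodule.fg_of_fg_map_of_fg_inf_ker g (IsNoetherian.noetherian _) (by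
    rw [top_inf_eq, h.linearMap_ker_eq]
    exact Module.Finite.iff_fg.1 inferInstance)⟩
  refine ⟨inferInstance, ?_⟩
  have h1 := g.finrank_range_add_finrank_ker
  rw [h.linearMap_ker_eq] at h1
  have h2 := LinearMap.finrank_range_le f
  have h3 := Submodule.finrank_le (LinearMap.range g)
  omega

variable {X : Scheme.{u}} [X.Over (Spec (CommRingCat.of k))]

/-- Cohomology of the cycles of an exact complex. -/
theorem bound_cycles (C : ℕ → X.Modules) (d : ∀ j, C j ⟶ C (j + 1)) (hd : ∀ j, d j ≫ d (j + 1) = 0)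
    (hex : ∀ j, (ShortComplex.mk (d j) (d (j + 1)) (hd j)).Exact)
    (hfin : ∀ j n, Module.Finite k (Coh.HH X (C j) n)) :
    ∀ (m j : ℕ), 1 ≤ j → Module.Finite k (Coh.HH X (kernel (d j)) m) ∧
      Module.finrank k (Coh.HH X (kernel (d j)) m) ≤
        ∑ t ∈ Finset.range (m + 1), Module.finrank k (Coh.HH X (C (j + t)) (m - t)) := by
  intro m j hj
  induction m generalizing j with
  | zero =>
    obtain ⟨j, rfl⟩ : ∃ i, j = i + 1 := ⟨j - 1, by omega⟩
    haveI : Epi (kernel.lift (d (j + 1 + 1)) (d (j + 1)) (hd (j + 1))) := (hex (j + 1)).epi_kernelLift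
    let S : ShortComplex X.Modules := ShortComplex.mk (kernel.ι (d (j + 1)))
      (kernel.lift (d (j + 1 + 1)) (d (j + 1)) (hd (j + 1)))
      (by rw [← cancel_mono (kernel.ι (d (j + 1 + 1))), Category.assoc, kernel.lift_ι, kernel.condition, zero_comp])
    have hS : S.ShortExact := ShortComplex.ShortExact.mk'
      ((ShortComplex.exact_iff_of_epi_of_isIso_of_mono
        ({ τ₁ := 𝟙 _, τ₂ := 𝟙 _, τ₃ := kernel.ι (d (j + 1 + 1)), comm₂₃ := by simp [S] } :
          S ⟶ ShortComplex.mk (kernel.ι (d (j + 1))) (d (j + 1)) (kernel.condition _))).2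
        (ShortComplex.exact_kernel _)) inferInstance inferInstance
    haveI := hfin (j + 1) 0
    have hinj : Function.Injective (hmap k S.f 0) := hmap_f_injective k hS
    refine ⟨Module.Finite.of_injective (hmap k S.f 0) hinj, ?_⟩
    simpa using LinearMap.finrank_le_finrank_of_injective hinj
  | succ m ih =>
    obtain ⟨j, rfl⟩ : ∃ i, j = i + 1 := ⟨j - 1, by omega⟩
    haveI : Epi (kernel.lift (d (j + 1 + 1)) (d (j + 1)) (hd (j + 1))) := (hex (j + 1)).epi_kernelLift
    let S : ShortComplex X.Modules := ShortComplex.mk (kernel.ι (d (j + 1)))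
      (kernel.lift (d (j + 1 + 1)) (d (j + 1)) (hd (j + 1)))
      (by rw [← cancel_mono (kernel.ι (d (j + 1 + 1))), Category.assoc, kernel.lift_ι, kernel.condition, zero_comp])
    have hS : S.ShortExact := ShortComplex.ShortExact.mk'
      ((ShortComplex.exact_iff_of_epi_of_isIso_of_mono
        ({ τ₁ := 𝟙 _, τ₂ := 𝟙 _, τ₃ := kernel.ι (d (j + 1 + 1)), comm₂₃ := by simp [S] } :
          S ⟶ ShortComplex.mk (kernel.ι (d (j + 1))) (d (j + 1)) (kernel.condition _))).2
        (ShortComplex.exact_kernel _)) inferInstance inferInstance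
    obtain ⟨hfi, hle⟩ := ih (j + 1 + 1) (by omega)
    haveI := hfi
    haveI := hfin (j + 1) (m + 1)
    haveI : Module.Finite k (Coh.HH X S.X₃ m) := hfi
    haveI : Module.Finite k (Coh.HH X S.X₂ (m + 1)) := hfin (j + 1) (m + 1)
    obtain ⟨h1, h2⟩ := finite_and_finrank_le_of_exact k _ _ (exact_hdelta_hmap k hS m)
    refine ⟨h1, le_trans h2 ?_⟩
    rw [Finset.sum_range_succ' _ (m + 1)]
    refine add_le_add (hle.trans (le_of_eq (Finset.sum_congr rfl fun t _ => ?_))) (le_of_eq rfl)
    rw [show j + 1 + (t + 1) = j + 1 + 1 + t by omega, show m + 1 - (t + 1) = m - t by omega]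

/-- The first two terms of an exact sequence have cohomology of nearly the same size. -/
theorem abs_sub_le (C : ℕ → X.Modules) (d : ∀ j, C j ⟶ C (j + 1)) (hd : ∀ j, d j ≫ d (j + 1) = 0)
    [Mono (d 0)] (hex : ∀ j, (ShortComplex.mk (d j) (d (j + 1)) (hd j)).Exact)
    (hfin : ∀ j n, Module.Finite k (Coh.HH X (C j) n)) (i : ℕ) :
    |(Module.finrank k (Coh.HH X (C 0) i) : ℤ) - (Module.finrank k (Coh.HH X (C 1) i) : ℤ)| ≤
      (Finset.Icc 1 (i + 1)).sum (fun j => ((Module.finrank k (Coh.HH X (C (j + 1)) (i + 1 - j))) : ℤ)) +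
        (Finset.Icc 1 i).sum (fun j => ((Module.finrank k (Coh.HH X (C (j + 1)) (i - j))) : ℤ)) := by
  haveI : Epi (kernel.lift (d 2) (d 1) (hd 1)) := (hex 1).epi_kernelLift
  let S : ShortComplex X.Modules := ShortComplex.mk (d 0) (kernel.lift (d 2) (d 1) (hd 1))
    (by rw [← cancel_mono (kernel.ι (d 2)), Category.assoc, kernel.lift_ι, hd 0, zero_comp])
  haveI : Mono S.f := inferInstanceAs (Mono (d 0))
  have hS : S.ShortExact := ShortComplex.ShortExact.mk'
    ((ShortComplex.exact_iff_of_epi_of_isIso_of_mono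
      ({ τ₁ := 𝟙 _, τ₂ := 𝟙 _, τ₃ := kernel.ι (d 2), comm₂₃ := by simp [S] } :
        S ⟶ ShortComplex.mk (d 0) (d 1) (hd 0))).2 (hex 0)) inferInstance inferInstance
  have key := bound_cycles k C d hd hex hfin
  have e : ∀ m, ∑ t ∈ Finset.range (m + 1), Module.finrank k (Coh.HH X (C (2 + t)) (m - t)) =
      (Finset.Icc 1 (m + 1)).sum (fun j => Module.finrank k (Coh.HH X (C (j + 1)) (m + 1 - j))) := fun m => by
    refine Finset.sum_nbij' (fun t => t + 1) (fun j => j - 1) ?_ ?_ ?_ ?_ ?_
    · intro t ht; simp only [Finset.mem_coe, Finset.mem_range] at ht; simp only [Finset.mem_coe, Finset.mem_Icc]; omega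
    · intro t ht; simp only [Finset.mem_coe, Finset.mem_Icc] at ht; simp only [Finset.mem_coe, Finset.mem_range]; omega
    · intro t ht; omega
    · intro t ht; simp only [Finset.mem_coe, Finset.mem_Icc] at ht; omega
    · intro t ht; rw [show t + 1 + 1 = 2 + t by omega, show m + 1 - (t + 1) = m - t by omega]
  have hA : Module.finrank k (Coh.HH X (C 1) i) ≤ Module.finrank k (Coh.HH X (C 0) i) +
      (Finset.Icc 1 (i + 1)).sum (fun j => Module.finrank k (Coh.HH X (C (j + 1)) (i + 1 - j))) := by
    haveI : Module.Finite k (Coh.HH X S.X₃ i) := (key i 2 (by omega)).1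
    haveI : Module.Finite k (Coh.HH X S.X₁ i) := hfin 0 i
    refine le_trans (finite_and_finrank_le_of_exact k _ _ (exact_hmap_hmap k hS i)).2 ?_
    rw [← e]
    exact add_le_add le_rfl (key i 2 (by omega)).2
  have hB : Module.finrank k (Coh.HH X (C 0) i) ≤ Module.finrank k (Coh.HH X (C 1) i) +
      (Finset.Icc 1 i).sum (fun j => Module.finrank k (Coh.HH X (C (j + 1)) (i - j))) := by
    cases i with
    | zero =>
      haveI := hfin 1 0
      simpa using LinearMap.finrank_le_finrank_of_injective (hmap_f_injective k hS)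
    | succ m =>
      haveI : Module.Finite k (Coh.HH X S.X₃ m) := (key m 2 (by omega)).1
      haveI : Module.Finite k (Coh.HH X S.X₂ (m + 1)) := hfin 1 (m + 1)
      refine le_trans (finite_and_finrank_le_of_exact k _ _ (exact_hdelta_hmap k hS m)).2 ?_
      rw [← e, add_comm]
      exact add_le_add le_rfl (key m 2 (by omega)).2
  rw [abs_sub_le_iff]
  have hA' := Int.ofNat_le.2 hA
  have hB' := Int.ofNat_le.2 hB
  push_cast at hA' hB'
  constructor
  · have : (0 : ℤ) ≤ (Finset.Icc 1 (i + 1)).sum (fun j => ((Module.finrank k (Coh.HH X (C (j + 1)) (i + 1 - j))) : ℤ)) :=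
      Finset.sum_nonneg fun j _ => Int.natCast_nonneg _
    linarith
  · have : (0 : ℤ) ≤ (Finset.Icc 1 i).sum (fun j => ((Module.finrank k (Coh.HH X (C (j + 1)) (i - j))) : ℤ)) :=
      Finset.sum_nonneg fun j _ => Int.natCast_nonneg _
    linarith

end field

end Groth.Agent.LenEuler15
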